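import Groth.Prelude.Def_DiffOp
import Mathlib.RingTheory.Etale.Basic
import Mathlib.RingTheory.Kaehler.Basic
import Mathlib.RingTheory.Ideal.Cotangent
import Mathlib.RingTheory.TensorProduct.Basic

/-!
Differential operators: the action of `S' ⊗ S` on `Hom_R(M, N')`, characterisation of order by
powers of the diagonal ideal, extension along formally étale maps.
-/

set_option autoImplicit false
universe u v

open scoped TensorProduct

namespace K586.DiffOp

section Action

variable (R S S' : Type*) [CommRing R] [CommRing S] [CommRing S'] [Algebra R S] [Algebra R S']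
variable (M N : Type*) [AddCommGroup M] [Module R M] [Module S M] [IsScalarTower R S M]
  [AddCommGroup N] [Module R N] [Module S' N] [IsScalarTower R S' N]

/-- right action -/
noncomputable def actR : S →ₐ[R] Module.End R (M →ₗ[R] N) where
  toFun s := LinearMap.lcomp R N (Algebra.lsmul R R M s)
  map_one' := by ext φ m; simp
  map_mul' s t := by
    ext φ m
    simp [smul_comm s t m]
  map_zero' := by ext φ m; simp
  map_add' s t := by ext φ m; simp
  commutes' r := by ext φ m; simp

/-- the action of `S' ⊗ S` on `Hom_R(M, N)`. -/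
noncomputable def act : S' ⊗[R] S →ₐ[R] Module.End R (M →ₗ[R] N) :=
  Algebra.TensorProduct.lift (Algebra.lsmul R R (M →ₗ[R] N)) (actR R S M N) (fun a b => by
    show _ * _ = _ * _
    ext φ m
    simp [actR])

variable {R S S' M N}

@[simp] lemma act_tmul (a : S') (b : S) (φ : M →ₗ[R] N) (m : M) :
    act R S S' M N (a ⊗ₜ b) φ m = a • φ (b • m) := by
  simp [act, actR]

lemma act_mul (a b : S' ⊗[R] S) (φ : M →ₗ[R] N) :
    act R S S' M N (a * b) φ = act R S S' M N a (act R S S' M N b φ) := by
  rw [map_mul]; rfl

end Action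

section Ideal

variable (R S S' : Type*) [CommRing R] [CommRing S] [CommRing S'] [Algebra R S] [Algebra R S']
  [Algebra S S'] [IsScalarTower R S S']

/-- the ideal generated by `1 ⊗ s - s ⊗ 1` in `S' ⊗ S`. -/
def diag : Ideal (S' ⊗[R] S) :=
  Ideal.span (Set.range fun s : S => (1 : S') ⊗ₜ[R] s - (algebraMap S S' s) ⊗ₜ[R] (1 : S))

/-- multiplication -/
noncomputable def mulMap : S' ⊗[R] S →ₐ[R] S' :=
  Algebra.TensorProduct.lift (AlgHom.id R S') (IsScalarTower.toAlgHom R S S') (fun _ _ => Commute.all _ _)

variable {R S S'}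

@[simp] lemma mulMap_tmul (a : S') (b : S) : mulMap R S S' (a ⊗ₜ b) = a * algebraMap S S' b := by
  simp [mulMap]

lemma mulMap_surjective : Function.Surjective (mulMap R S S') := fun a => ⟨a ⊗ₜ 1, by simp⟩

lemma sub_mem_diag (x : S' ⊗[R] S) : x - (mulMap R S S' x) ⊗ₜ[R] (1 : S) ∈ diag R S S' := by
  induction x with
  | zero => simp
  | add x y hx hy =>
    rw [map_add, TensorProduct.add_tmul, ← sub_add_sub_comm]
    exact add_mem hx hy
  | tmul a b =>
    have : a ⊗ₜ[R] b - (mulMap R S S' (a ⊗ₜ b)) ⊗ₜ[R] (1 : S)
        = (a ⊗ₜ[R] (1 : S)) * ((1 : S') ⊗ₜ[R] b - (algebraMap S S' b) ⊗ₜ[R] (1 : S)) := by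
      simp [mul_sub]
    rw [this]
    exact Ideal.mul_mem_left _ _ (Ideal.subset_span ⟨b, rfl⟩)

lemma diag_eq_ker : diag R S S' = RingHom.ker (mulMap R S S') := by
  apply le_antisymm
  · rw [diag, Ideal.span_le]
    rintro _ ⟨s, rfl⟩
    simp [RingHom.mem_ker]
  · intro x hx
    have h := sub_mem_diag (R := R) (S := S) (S' := S') x
    rw [RingHom.mem_ker] at hx
    rw [hx] at h
    simpa using h

end Ideal

section Order

variable {R S : Type u} {S' : Type*} [CommRing R] [CommRing S] [CommRing S'] [Algebra R S]
  [Algebra R S'] [Algebra S S'] [IsScalarTower R S S']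
variable {M N : Type v} [AddCommGroup M] [Module R M] [Module S M] [IsScalarTower R S M]
  [AddCommGroup N] [Module R N] [Module S N] [IsScalarTower R S N]
  [Module S' N] [IsScalarTower R S' N] [IsScalarTower S S' N]

lemma commutator_apply (D : M →ₗ[R] N) (s : S) (m : M) :
    Diff16.commutator R S M N D s m = D (s • m) - s • D m := by
  simp [Diff16.commutator]

omit [IsScalarTower R S S'] in
lemma act_gen (D : M →ₗ[R] N) (s : S) :
    act R S S' M N ((1 : S') ⊗ₜ[R] s - (algebraMap S S' s) ⊗ₜ[R] (1 : S)) D =
      Diff16.commutator R S M N D s := by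
  ext m
  rw [map_sub, LinearMap.sub_apply, LinearMap.sub_apply, act_tmul, act_tmul, commutator_apply]
  simp

variable (S') in
lemma act_eq_zero_of_isDiffOpLE (k : ℕ) : ∀ (D : M →ₗ[R] N), Diff16.IsDiffOpLE R S M N k D →
    ∀ t ∈ (diag R S S') ^ (k + 1), act R S S' M N t D = 0 := by
  induction k with
  | zero =>
    intro D hD t ht
    rw [zero_add, pow_one, diag] at ht
    refine Submodule.span_induction ?_ ?_ ?_ ?_ ht
    · rintro _ ⟨s, rfl⟩
      ext m
      rw [act_gen, commutator_apply, hD s m]
      simp
    · simp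
    · intro x y _ _ hx hy
      rw [map_add, LinearMap.add_apply, hx, hy, add_zero]
    · intro a x _ hx
      rw [smul_eq_mul, act_mul, hx, map_zero]
  | succ k ih =>
    intro D hD t ht
    rw [pow_succ] at ht
    refine Submodule.mul_induction_on ht ?_ ?_
    · intro p hp q hq
      rw [act_mul]
      revert p
      rw [diag] at hq
      refine Submodule.span_induction ?_ ?_ ?_ ?_ hq
      · rintro _ ⟨s, rfl⟩ p hp
        rw [act_gen]
        exact ih _ (hD s) p hp
      · intro p hp
        simp
      · intro x y _ _ hx hy p hp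
        rw [map_add, LinearMap.add_apply, map_add, hx p hp, hy p hp, add_zero]
      · intro a x _ hx p hp
        rw [smul_eq_mul, act_mul, ← act_mul]
        exact hx _ (Ideal.mul_mem_right _ _ hp)
    · intro x y hx hy
      rw [map_add, LinearMap.add_apply, hx, hy, add_zero]

lemma isDiffOpLE_of_act_eq_zero (k : ℕ) : ∀ (D : M →ₗ[R] N),
    (∀ t ∈ (diag R S S') ^ (k + 1), act R S S' M N t D = 0) → Diff16.IsDiffOpLE R S M N k D := by
  induction k with
  | zero =>
    intro D hD s m
    have h := hD ((1 : S') ⊗ₜ[R] s - (algebraMap S S' s) ⊗ₜ[R] (1 : S))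
      (by rw [zero_add, pow_one]; exact Ideal.subset_span ⟨s, rfl⟩)
    rw [act_gen] at h
    have h2 := LinearMap.congr_fun h m
    rw [commutator_apply, LinearMap.zero_apply, sub_eq_zero] at h2
    exact h2
  | succ k ih =>
    intro D hD s
    refine ih _ fun t ht => ?_
    rw [← act_gen (S' := S'), ← act_mul]
    apply hD
    rw [pow_succ]
    exact Ideal.mul_mem_mul ht (Ideal.subset_span ⟨s, rfl⟩)

end Order

section Basic

variable {R S : Type u} [CommRing R] [CommRing S] [Algebra R S]
variable {M N P : Type v} [AddCommGroup M] [Module R M] [Module S M] [IsScalarTower R S M]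
  [AddCommGroup N] [Module R N] [Module S N] [IsScalarTower R S N]
  [AddCommGroup P] [Module R P] [Module S P] [IsScalarTower R S P]

lemma commutator_sub (D E : M →ₗ[R] N) (s : S) :
    Diff16.commutator R S M N (D - E) s =
      Diff16.commutator R S M N D s - Diff16.commutator R S M N E s := by
  ext m
  simp only [commutator_apply, LinearMap.sub_apply, smul_sub]
  abel

lemma isDiffOpLE_sub (k : ℕ) : ∀ (D E : M →ₗ[R] N), Diff16.IsDiffOpLE R S M N k D →
    Diff16.IsDiffOpLE R S M N k E → Diff16.IsDiffOpLE R S M N k (D - E) := by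
  induction k with
  | zero => intro D E hD hE s m; simp [hD s m, hE s m, smul_sub]
  | succ k ih =>
    intro D E hD hE s
    rw [commutator_sub]
    exact ih _ _ (hD s) (hE s)

/-- post-composition with an `S`-linear map -/
lemma isDiffOpLE_comp_linear (g : N →ₗ[S] P) (k : ℕ) : ∀ (D : M →ₗ[R] N),
    Diff16.IsDiffOpLE R S M N k D →
      Diff16.IsDiffOpLE R S M P k (g.restrictScalars R ∘ₗ D) := by
  induction k with
  | zero => intro D hD s m; simp [hD s m]
  | succ k ih =>
    intro D hD s
    have : Diff16.commutator R S M P (g.restrictScalars R ∘ₗ D) s =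
        g.restrictScalars R ∘ₗ Diff16.commutator R S M N D s := by
      ext m; simp [commutator_apply]
    rw [this]
    exact ih _ (hD s)

/-- pre-composition with an `S`-linear map -/
lemma isDiffOpLE_precomp_linear (g : P →ₗ[S] M) (k : ℕ) : ∀ (D : M →ₗ[R] N),
    Diff16.IsDiffOpLE R S M N k D →
      Diff16.IsDiffOpLE R S P N k (D ∘ₗ g.restrictScalars R) := by
  induction k with
  | zero => intro D hD s m; simp [hD s (g m)]
  | succ k ih =>
    intro D hD s
    have : Diff16.commutator R S P N (D ∘ₗ g.restrictScalars R) s =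
        Diff16.commutator R S M N D s ∘ₗ g.restrictScalars R := by
      ext m; simp [commutator_apply]
    rw [this]
    exact ih _ (hD s)

end Basic

section RestrictBase

/-- A differential operator over `S'/R` is one over `S/R` for `R → S → S'`. -/
lemma isDiffOpLE_restrict {R S S' : Type u} [CommRing R] [CommRing S] [CommRing S'] [Algebra R S]
    [Algebra R S'] [Algebra S S'] [IsScalarTower R S S'] {M N : Type v}
    [AddCommGroup M] [Module R M] [Module S M] [Module S' M] [IsScalarTower R S M]
    [IsScalarTower R S' M] [IsScalarTower S S' M]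
    [AddCommGroup N] [Module R N] [Module S N] [Module S' N] [IsScalarTower R S N]
    [IsScalarTower R S' N] [IsScalarTower S S' N] (k : ℕ) : ∀ (D : M →ₗ[R] N),
    Diff16.IsDiffOpLE R S' M N k D → Diff16.IsDiffOpLE R S M N k D := by
  induction k with
  | zero =>
    intro D hD s m
    rw [← algebraMap_smul S' s m, hD, algebraMap_smul]
  | succ k ih =>
    intro D hD s
    have : Diff16.commutator R S M N D s = Diff16.commutator R S' M N D (algebraMap S S' s) := by
      ext m; simp [commutator_apply]
    rw [this]
    exact ih _ (hD _)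

/-- If a differential operator over `S'/R` is `S`-linear, then it is a differential operator over
`S'/S`. -/
lemma isDiffOpLE_of_linear {R S S' : Type u} [CommRing R] [CommRing S] [CommRing S'] [Algebra R S]
    [Algebra R S'] [Algebra S S'] [IsScalarTower R S S'] {M N : Type v}
    [AddCommGroup M] [Module R M] [Module S M] [Module S' M] [IsScalarTower R S M]
    [IsScalarTower R S' M] [IsScalarTower S S' M]
    [AddCommGroup N] [Module R N] [Module S N] [Module S' N] [IsScalarTower R S N]
    [IsScalarTower R S' N] [IsScalarTower S S' N] (k : ℕ) : ∀ (D : M →ₗ[S] N),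
    Diff16.IsDiffOpLE R S' M N k (D.restrictScalars R) → Diff16.IsDiffOpLE S S' M N k D := by
  induction k with
  | zero =>
    intro D hD s m
    exact hD s m
  | succ k ih =>
    intro D hD s
    refine ih _ ?_
    have : (Diff16.commutator S S' M N D s).restrictScalars R =
        Diff16.commutator R S' M N (D.restrictScalars R) s := by
      ext m; simp [commutator_apply]
    rw [this]
    exact hD s

end RestrictBase

section Unique

variable {R S S' : Type u} [CommRing R] [CommRing S] [CommRing S'] [Algebra R S]
    [Algebra R S'] [Algebra S S'] [IsScalarTower R S S']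

lemma diag_self_eq (S S' : Type u) [CommRing S] [CommRing S'] [Algebra S S'] :
    diag S S' S' = KaehlerDifferential.ideal S S' := by
  rw [← KaehlerDifferential.span_range_eq_ideal]
  rfl

lemma diag_idem (S S' : Type u) [CommRing S] [CommRing S'] [Algebra S S']
    [Algebra.FormallyUnramified S S'] (k : ℕ) : diag S S' S' ^ (k + 1) = diag S S' S' := by
  have h : IsIdempotentElem (KaehlerDifferential.ideal S S') := by
    rw [← Ideal.cotangent_subsingleton_iff]
    exact Algebra.FormallyUnramified.subsingleton_kaehlerDifferential (R := S) (A := S')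
  rw [diag_self_eq]
  exact h.pow_succ_eq k

/-- Over a formally unramified extension `S → S'`, an `S`-linear differential operator is
`S'`-linear. -/
lemma linear_of_formallyUnramified [Algebra.FormallyUnramified S S'] {M N : Type v}
    [AddCommGroup M] [Module S M] [Module S' M] [IsScalarTower S S' M]
    [AddCommGroup N] [Module S N] [Module S' N] [IsScalarTower S S' N] (k : ℕ) (D : M →ₗ[S] N)
    (hD : Diff16.IsDiffOpLE S S' M N k D) (s : S') (m : M) : D (s • m) = s • D m := by
  have h := act_eq_zero_of_isDiffOpLE S' k D hD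
  rw [diag_idem] at h
  have h2 : Diff16.IsDiffOpLE S S' M N 0 D :=
    isDiffOpLE_of_act_eq_zero (S' := S') 0 D (by rw [zero_add, pow_one]; exact h)
  exact h2 s m

/-- Uniqueness of extensions of differential operators. -/
theorem eq_zero_of_formallyUnramified [Algebra.FormallyUnramified S S'] {M : Type v} {M' N' : Type v}
    [AddCommGroup M] [Module S M]
    [AddCommGroup M'] [Module R M'] [Module S M'] [Module S' M'] [IsScalarTower R S M']
    [IsScalarTower R S' M'] [IsScalarTower S S' M']
    [AddCommGroup N'] [Module R N'] [Module S N'] [Module S' N'] [IsScalarTower R S N']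
    [IsScalarTower R S' N'] [IsScalarTower S S' N']
    (f : M →ₗ[S] M') (hf : Submodule.span S' (Set.range f) = ⊤) (k : ℕ) :
    ∀ (E : M' →ₗ[R] N'), Diff16.IsDiffOpLE R S' M' N' k E → (∀ m, E (f m) = 0) → E = 0 := by
  have key : ∀ (E : M' →ₗ[R] N'), (∀ (s : S') (x : M'), E (s • x) = s • E x) →
      (∀ m, E (f m) = 0) → E = 0 := by
    intro E hE h0
    ext x
    have hx : x ∈ Submodule.span S' (Set.range f) := by rw [hf]; trivial
    rw [LinearMap.zero_apply]
    refine Submodule.span_induction ?_ ?_ ?_ ?_ hx
    · rintro _ ⟨m, rfl⟩; exact h0 m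
    · simp
    · intro a b _ _ ha hb; rw [map_add, ha, hb, add_zero]
    · intro a b _ hb; rw [hE, hb, smul_zero]
  induction k with
  | zero => intro E hE h0; exact key E hE h0
  | succ k ih =>
    intro E hE h0
    have hlin : ∀ (s : S) (x : M'), E (s • x) = s • E x := by
      intro s x
      have h1 := ih (Diff16.commutator R S' M' N' E (algebraMap S S' s)) (hE _) (by
        intro m
        rw [commutator_apply, algebraMap_smul, algebraMap_smul, ← map_smul, h0, h0, smul_zero,
          sub_zero])
      have h2 := LinearMap.congr_fun h1 x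
      rw [commutator_apply, algebraMap_smul, algebraMap_smul, LinearMap.zero_apply, sub_eq_zero] at h2
      exact h2
    let ES : M' →ₗ[S] N' := { toFun := E, map_add' := E.map_add, map_smul' := hlin }
    have hES : ES.restrictScalars R = E := by ext; rfl
    have h3 : Diff16.IsDiffOpLE S S' M' N' (k + 1) ES :=
      isDiffOpLE_of_linear (R := R) (k + 1) ES (by rw [hES]; exact hE)
    exact key E (fun s x => linear_of_formallyUnramified (k + 1) ES h3 s x) h0

end Unique

section Exists

/-- lifting along a nilpotent extension, with the algebra structure given by a ring map. -/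
lemma exists_lift_ringHom {S S' Q : Type*} [CommRing S] [CommRing S'] [CommRing Q] [Algebra S S']
    [Algebra.FormallySmooth S S'] (r : S →+* Q) (π : Q →+* S') (hπ : Function.Surjective π)
    (hker : IsNilpotent (RingHom.ker π)) (hcomp : π.comp r = algebraMap S S') :
    ∃ τ : S' →+* Q, τ.comp (algebraMap S S') = r ∧ π.comp τ = RingHom.id S' := by
  letI : Algebra S Q := r.toAlgebra
  let π' : Q →ₐ[S] S' := { π with commutes' := fun s => RingHom.congr_fun hcomp s }
  let τ := Algebra.FormallySmooth.liftOfSurjective (AlgHom.id S S') π' hπ hker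
  refine ⟨τ, ?_, ?_⟩
  · exact τ.comp_algebraMap
  · ext x
    exact Algebra.FormallySmooth.liftOfSurjective_apply (AlgHom.id S S') π' hπ hker x

variable {R S S' : Type u} [CommRing R] [CommRing S] [CommRing S'] [Algebra R S]
    [Algebra R S'] [Algebra S S'] [IsScalarTower R S S']
variable {M N : Type u} [AddCommGroup M] [Module R M] [Module S M] [IsScalarTower R S M]
  [AddCommGroup N] [Module R N] [Module S N] [IsScalarTower R S N]
  [Module S' N] [IsScalarTower R S' N] [IsScalarTower S S' N]

/-- Existence of extensions of differential operators along a formally smooth map with a chosen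
section of the principal parts. -/
theorem exists_extension [Algebra.FormallySmooth S S'] (k : ℕ) (D : M →ₗ[R] N)
    (hD : Diff16.IsDiffOpLE R S M N k D) :
    ∃ D' : S' ⊗[S] M →ₗ[R] N, Diff16.IsDiffOpLE R S' (S' ⊗[S] M) N k D' ∧
      ∀ m : M, D' (1 ⊗ₜ m) = D m := by
  classical
  let J : Ideal (S' ⊗[R] S) := diag R S S'
  have hact := act_eq_zero_of_isDiffOpLE S' k D hD
  let Q := (S' ⊗[R] S) ⧸ J ^ (k + 1)
  let mk : (S' ⊗[R] S) →+* Q := Ideal.Quotient.mk (J ^ (k + 1))
  have hmk : Function.Surjective mk := Ideal.Quotient.mk_surjective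
  have hmk0 : ∀ x, mk x = 0 ↔ x ∈ J ^ (k + 1) := fun x => Ideal.Quotient.eq_zero_iff_mem
  -- left and right structure
  let lef : S' →+* Q := mk.comp (Algebra.TensorProduct.includeLeftRingHom (R := R) (A := S') (B := S))
  let rig : S →+* Q := mk.comp (Algebra.TensorProduct.includeRight (R := R) (A := S') (B := S)).toRingHom
  let π : Q →+* S' := Ideal.Quotient.lift (J ^ (k + 1)) (mulMap R S S').toRingHom (by
    intro a ha
    have : a ∈ J := Ideal.pow_le_self (Nat.succ_ne_zero k) ha
    rw [show J = _ from diag_eq_ker] at this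
    exact this)
  have hπmk : ∀ x, π (mk x) = mulMap R S S' x := fun x => rfl
  have hπ : Function.Surjective π := fun a => by
    obtain ⟨x, hx⟩ := mulMap_surjective (R := R) (S := S) (S' := S') a
    exact ⟨mk x, by rw [hπmk, hx]⟩
  have hkerπ : RingHom.ker π = J.map mk := by
    ext q
    obtain ⟨x, rfl⟩ := hmk q
    rw [RingHom.mem_ker, hπmk]
    constructor
    · intro hx
      have : x ∈ J := by
        rw [show J = _ from diag_eq_ker]; exact hx
      exact Ideal.mem_map_of_mem _ this
    · intro hx
      rw [Ideal.mem_map_iff_of_surjective mk hmk] at hx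
      obtain ⟨y, hy, hyx⟩ := hx
      have h1 : mulMap R S S' y = 0 := by
        rw [show J = _ from diag_eq_ker] at hy; exact hy
      rw [← hπmk, ← hyx, hπmk, h1]
  have hnil : (RingHom.ker π) ^ (k + 1) = ⊥ := by
    rw [hkerπ, ← Ideal.map_pow]
    rw [Ideal.map_eq_bot_iff_le_ker]
    intro x hx
    exact (hmk0 x).2 hx
  obtain ⟨τ, hτ1, hτ2⟩ := exists_lift_ringHom rig π hπ ⟨k + 1, hnil⟩ (by
    ext s
    show π (mk ((1 : S') ⊗ₜ[R] s)) = _
    rw [hπmk, mulMap_tmul, one_mul])
  -- the operator attached to an element of `Q`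
  let Φ : Q → (M →ₗ[R] N) := fun q => act R S S' M N (Function.surjInv hmk q) D
  have hΦ : ∀ t, Φ (mk t) = act R S S' M N t D := by
    intro t
    have h1 : Function.surjInv hmk (mk t) - t ∈ J ^ (k + 1) := by
      rw [← hmk0, map_sub, Function.surjInv_eq hmk, sub_self]
    have h2 := hact _ h1
    rw [map_sub, LinearMap.sub_apply, sub_eq_zero] at h2
    exact h2
  have hΦadd : ∀ p q, Φ (p + q) = Φ p + Φ q := by
    intro p q
    obtain ⟨a, rfl⟩ := hmk p
    obtain ⟨b, rfl⟩ := hmk q
    rw [← map_add, hΦ, hΦ, hΦ, map_add, LinearMap.add_apply]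
  have hΦrig : ∀ (q : Q) (s : S) (m : M), Φ (q * rig s) m = Φ q (s • m) := by
    intro q s m
    obtain ⟨a, rfl⟩ := hmk q
    show Φ (mk a * mk _) m = _
    rw [← map_mul, hΦ, hΦ, mul_comm, act_mul]
    show act R S S' M N ((1 : S') ⊗ₜ s) _ m = _
    rw [act_tmul, one_smul]
  have hΦlef : ∀ (q : Q) (s : S') (m : M), Φ (lef s * q) m = s • Φ q m := by
    intro q s m
    obtain ⟨a, rfl⟩ := hmk q
    show Φ (mk _ * mk a) m = _
    rw [← map_mul, hΦ, hΦ, act_mul]
    show act R S S' M N (s ⊗ₜ (1 : S)) _ m = _
    rw [act_tmul, one_smul]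
  -- the extended operator
  let B : Q → (S' →+ M →+ N) := fun q =>
    { toFun := fun s' => (Φ (q * τ s')).toAddMonoidHom
      map_zero' := by
        ext m
        rw [map_zero, mul_zero]
        have := hΦadd 0 0
        rw [add_zero, left_eq_add] at this
        rw [this]; rfl
      map_add' := fun a b => by
        ext m
        rw [map_add, mul_add, hΦadd]
        rfl }
  have hB : ∀ q s' m, B q s' m = Φ (q * τ s') m := fun _ _ _ => rfl
  have hτs : ∀ s : S, τ (algebraMap S S' s) = rig s := fun s => RingHom.congr_fun hτ1 s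
  have hbal : ∀ (q : Q) (s : S) (a : S') (m : M), B q (s • a) m = B q a (s • m) := by
    intro q s a m
    rw [hB, hB, Algebra.smul_def, map_mul, hτs, ← hΦrig]
    congr 2
    ring
  let Ψ0 : Q → (S' ⊗[S] M →+ N) := fun q => TensorProduct.liftAddHom (B q) (hbal q)
  have hΨ0 : ∀ q a m, Ψ0 q (a ⊗ₜ m) = Φ (q * τ a) m := fun _ _ _ => rfl
  have hrigR : ∀ r : R, rig (algebraMap R S r) = lef (algebraMap R S' r) := by
    intro r
    show mk _ = mk _
    congr 1
    show (1 : S') ⊗ₜ[R] (algebraMap R S r) = (algebraMap R S' r) ⊗ₜ[R] (1 : S)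
    rw [Algebra.algebraMap_eq_smul_one, Algebra.algebraMap_eq_smul_one, TensorProduct.tmul_smul,
      TensorProduct.smul_tmul']
  let Ψ : Q → (S' ⊗[S] M →ₗ[R] N) := fun q =>
    { toFun := Ψ0 q
      map_add' := (Ψ0 q).map_add
      map_smul' := by
        intro r x
        induction x with
        | zero => simp
        | add x y hx hy => rw [smul_add, map_add, map_add, hx, hy, smul_add]
        | tmul a m =>
          rw [TensorProduct.smul_tmul', hΨ0, hΨ0, Algebra.smul_def, map_mul,
            IsScalarTower.algebraMap_apply R S S', hτs, hrigR, RingHom.id_apply,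
            show q * (lef (algebraMap R S' r) * τ a) = lef (algebraMap R S' r) * (q * τ a) by ring,
            hΦlef, algebraMap_smul] }
  have hΨ : ∀ q a m, Ψ q (a ⊗ₜ m) = Φ (q * τ a) m := fun _ _ _ => rfl
  have hcomm : ∀ (q : Q) (b : S'), Diff16.commutator R S' (S' ⊗[S] M) N (Ψ q) b =
      Ψ ((τ b - lef b) * q) := by
    intro q b
    ext x
    rw [commutator_apply]
    induction x with
    | zero => simp
    | add x y hx hy =>
      rw [smul_add, map_add, map_add, smul_add, map_add, ← hx, ← hy]
      abel
    | tmul a m =>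
      rw [TensorProduct.smul_tmul', hΨ, hΨ, hΨ, ← hΦlef, smul_eq_mul, map_mul, sub_eq_iff_eq_add,
        ← LinearMap.add_apply, ← hΦadd]
      congr 2
      ring
  have hmem : ∀ b : S', τ b - lef b ∈ RingHom.ker π := by
    intro b
    rw [RingHom.mem_ker, map_sub, sub_eq_zero]
    have h1 : π (τ b) = b := RingHom.congr_fun hτ2 b
    rw [h1]
    show _ = π (mk (b ⊗ₜ[R] (1 : S)))
    rw [hπmk, mulMap_tmul, map_one, mul_one]
  have hdiff : ∀ (i : ℕ) (j : ℕ) (_ : i + j = k) (q : Q) (_ : q ∈ (RingHom.ker π) ^ j),
      Diff16.IsDiffOpLE R S' (S' ⊗[S] M) N i (Ψ q) := by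
    intro i
    induction i with
    | zero =>
      intro j hj q hq b x
      have h1 : (τ b - lef b) * q = 0 := by
        rw [← Ideal.mem_bot, ← hnil, pow_succ' (RingHom.ker π) k]
        rw [zero_add] at hj
        subst hj
        exact Ideal.mul_mem_mul (hmem b) hq
      have h2 := LinearMap.congr_fun (hcomm q b) x
      have hΨ00 : Ψ 0 = 0 := by
        have h3 : ∀ m, Φ 0 m = 0 := by
          have := hΦadd 0 0
          rw [add_zero, left_eq_add] at this
          intro m; rw [this]; rfl
        ext x
        induction x with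
        | zero => simp
        | add x y hx hy => rw [map_add, hx, hy]; simp
        | tmul a m => rw [hΨ, zero_mul, h3]; rfl
      rw [h1, hΨ00, commutator_apply, LinearMap.zero_apply, sub_eq_zero] at h2
      exact h2
    | succ i ih =>
      intro j hj q hq b
      rw [hcomm]
      refine ih (j + 1) (by omega) _ ?_
      rw [pow_succ' (RingHom.ker π) j]
      exact Ideal.mul_mem_mul (hmem b) hq
  refine ⟨Ψ 1, hdiff k 0 (by omega) 1 (by
    rw [show (RingHom.ker π) ^ 0 = 1 from pow_zero _, Ideal.one_eq_top]; exact Submodule.mem_top), fun m => ?_⟩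
  rw [hΨ, map_one, mul_one]
  have : (1 : Q) = mk 1 := (map_one mk).symm
  rw [this, hΦ, Algebra.TensorProduct.one_def, act_tmul, one_smul, one_smul]

end Exists

end K586.DiffOp
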